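import Mathlib

/-! # An induction principle for extension-closed properties under an ascending chain condition. -/

set_option autoImplicit false
universe v u
open CategoryTheory Limits

namespace Groth.Agent.LD.Misc

/-- under the ascending chain condition on a set, every nonempty subset has a maximal element. -/
theorem exists_maximal_of_acc {α : Type*} [PartialOrder α] (S : Set α) (hne : S.Nonempty)
    (hacc : ∀ f : ℕ →o α, (∀ n, f n ∈ S) → ∃ n, ∀ m, n ≤ m → f m = f n) :
    ∃ a ∈ S, ∀ b ∈ S, a ≤ b → b = a := by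
  by_contra hcon
  push Not at hcon
  have hstep : ∀ a : S, ∃ b : S, (a : α) < b := by
    intro a
    obtain ⟨b, hb, hab, hne'⟩ := hcon a.1 a.2
    exact ⟨⟨b, hb⟩, lt_of_le_of_ne hab (Ne.symm hne')⟩
  choose g hg using hstep
  obtain ⟨a₀, ha₀⟩ := hne
  let s : ℕ → S := fun n => Nat.rec ⟨a₀, ha₀⟩ (fun _ x => g x) n
  have hs : ∀ n, (s n).1 < (s (n + 1)).1 := fun n => hg (s n)
  have hmono : Monotone (fun n => (s n).1) := monotone_nat_of_le_succ (fun n => (hs n).le)
  obtain ⟨n, hn⟩ := hacc ⟨fun n => (s n).1, hmono⟩ (fun n => (s n).2)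
  have := hn (n + 1) (Nat.le_succ n)
  exact absurd this (ne_of_gt (hs n))

variable {C : Type u} [Category.{v} C] [Abelian C]

/-- **Noetherian induction for extension-closed properties.** -/
theorem serre_induction (Coh : C → Prop)
    (hCohIso : ∀ A B : C, (A ≅ B) → Coh A → Coh B)
    (hker : ∀ {A B : C} (f : A ⟶ B), Coh A → Coh B → Coh (kernel f))
    (hcoker : ∀ {A B : C} (f : A ⟶ B), Coh A → Coh B → Coh (cokernel f))
    (P : C → Prop) (hPiso : ∀ A B : C, (A ≅ B) → P A → P B)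
    (hP0 : ∀ Z : C, IsZero Z → P Z)
    (hPext : ∀ S : ShortComplex C, S.ShortExact → Coh S.X₁ → Coh S.X₂ → Coh S.X₃ →
      P S.X₁ → P S.X₃ → P S.X₂)
    (E : C) (hE : Coh E)
    (hacc : ∀ f : ℕ →o Subobject E, (∀ n, Coh (f n : C)) → ∃ n, ∀ m, n ≤ m → f m = f n)
    (hstep : ∀ (Q : C) (π : E ⟶ Q), Epi π → Coh Q → ¬ IsZero Q →
      ∃ (N : C) (j : N ⟶ Q), Mono j ∧ Coh N ∧ ¬ IsZero N ∧ P N) :
    P E := by
  by_contra hPE
  let S : Set (Subobject E) := {K | Coh (K : C) ∧ ¬ P (cokernel K.arrow)}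
  have hbot : (⊥ : Subobject E) ∈ S := by
    refine ⟨hCohIso _ _ (Subobject.botCoeIsoZero (B := E)).symm ?_, ?_⟩
    · have hz : Coh (kernel (𝟙 E)) := hker (𝟙 E) hE hE
      exact hCohIso _ _ ((isZero_kernel_of_mono (𝟙 E)).iso (isZero_zero C)) hz
    · intro h
      apply hPE
      have e : cokernel (⊥ : Subobject E).arrow ≅ E := by
        have h0 : (⊥ : Subobject E).arrow = 0 := Subobject.bot_arrow
        exact cokernelIsoOfEq h0 ≪≫ cokernelZeroIsoTarget
      exact hPiso _ _ e h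
  obtain ⟨K, ⟨hKc, hKP⟩, hKmax⟩ := exists_maximal_of_acc S ⟨⊥, hbot⟩
    (fun f hf => hacc f (fun n => (hf n).1))
  set Q := cokernel K.arrow with hQdef
  let π : E ⟶ Q := cokernel.π K.arrow
  have hQc : Coh Q := hcoker K.arrow hKc hE
  have hQnz : ¬ IsZero Q := fun hz => hKP (hP0 _ hz)
  obtain ⟨N, j, hj, hNc, hNnz, hNP⟩ := hstep Q π inferInstance hQc hQnz
  haveI := hj
  let Q₂ := cokernel j
  let c : Q ⟶ Q₂ := cokernel.π j
  have hQ₂c : Coh Q₂ := hcoker j hNc hQc
  have hses : (ShortComplex.mk j c (cokernel.condition j)).ShortExact :=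
    { exact := ShortComplex.exact_of_g_is_cokernel _ (cokernelIsCokernel j)
      mono_f := hj
      epi_g := inferInstanceAs (Epi (cokernel.π j)) }
  have hQ₂P : ¬ P Q₂ := fun h => hKP (hPext _ hses hNc hQc hQ₂c hNP h)
  let ρ : E ⟶ Q₂ := π ≫ c
  haveI : Epi ρ := epi_comp π c
  let K₂ : Subobject E := kernelSubobject ρ
  have hK₂c : Coh (K₂ : C) :=
    hCohIso _ _ (kernelSubobjectIso ρ).symm (hker ρ hE hQ₂c)
  have e₂ : cokernel K₂.arrow ≅ Q₂ := by
    have h1 : K₂.arrow = (kernelSubobjectIso ρ).hom ≫ kernel.ι ρ :=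
      (kernelSubobject_arrow ρ).symm
    have e1 : cokernel K₂.arrow ≅ cokernel (kernel.ι ρ) :=
      cokernelIsoOfEq h1 ≪≫ cokernelEpiComp _ _
    have e2 : cokernel (kernel.ι ρ) ≅ Q₂ :=
      (cokernelIsCokernel (kernel.ι ρ)).coconePointUniqueUpToIso
        (Abelian.epiIsCokernelOfKernel (KernelFork.ofι (kernel.ι ρ) (kernel.condition ρ))
          (kernelIsKernel ρ))
    exact e1 ≪≫ e2
  have hK₂S : K₂ ∈ S := ⟨hK₂c, fun h => hQ₂P (hPiso _ _ e₂ h)⟩
  have hle : K ≤ K₂ := by
    apply le_kernelSubobject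
    change K.arrow ≫ π ≫ c = 0
    rw [cokernel.condition_assoc, zero_comp]
  have hEq : K₂ = K := hKmax K₂ hK₂S hle
  -- derive `N = 0`
  apply hNnz
  have hfac : (kernelSubobject ρ).Factors (pullback.fst π j) := by
    apply kernelSubobject_factors
    change pullback.fst π j ≫ π ≫ c = 0
    rw [← Category.assoc, pullback.condition, Category.assoc, cokernel.condition, comp_zero]
  have hfacK : K.Factors (pullback.fst π j) := hEq ▸ hfac
  have h1 : pullback.fst π j ≫ π = 0 := by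
    rw [← Subobject.factorThru_arrow K _ hfacK, Category.assoc]
    change _ ≫ K.arrow ≫ cokernel.π K.arrow = 0
    rw [cokernel.condition, comp_zero]
  have h2 : pullback.snd π j ≫ j = 0 := by rw [← pullback.condition, h1]
  haveI : Epi (pullback.snd π j) := Abelian.epi_pullback_of_epi_f π j
  have h3 : j = 0 := by
    rw [← cancel_epi (pullback.snd π j), h2, comp_zero]
  have h4 : 𝟙 N = 0 := by
    rw [← cancel_mono j, h3, comp_zero, comp_zero]
  exact (IsZero.iff_id_eq_zero N).mpr h4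

end Groth.Agent.LD.Misc
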