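import Mathlib

/-! # Changing the base point of an Albanese-type universal morphism (pure group-object algebra). -/

set_option autoImplicit false
open CategoryTheory MonoidalCategory CartesianMonoidalCategory MonObj GrpObj

namespace Groth.Agent.LD.Misc

variable {C : Type*} [Category C] [CartesianMonoidalCategory C]

lemma pt_toUnit {X : C} (y : 𝟙_ C ⟶ X) {Z : C} (z : 𝟙_ C ⟶ Z) : y ≫ toUnit X ≫ z = z := by
  rw [← Category.assoc, toUnit_unique (y ≫ toUnit X) (𝟙 _), Category.id_comp]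

theorem alb_change_basepoint {X A : C} [GrpObj A] (x₀ x₁ : 𝟙_ C ⟶ X) (alb : X ⟶ A)
    (halb : x₀ ≫ alb = η[A]) :
    x₁ ≫ (alb * (toUnit X ≫ x₁ ≫ alb)⁻¹) = η[A] ∧
    ∀ (B : C) [GrpObj B],
      (∀ g : X ⟶ B, x₀ ≫ g = η[B] → ∃! h : A ⟶ B, IsMonHom h ∧ alb ≫ h = g) →
      ∀ g : X ⟶ B, x₁ ≫ g = η[B] →
        ∃! h : A ⟶ B, IsMonHom h ∧ (alb * (toUnit X ≫ x₁ ≫ alb)⁻¹) ≫ h = g := by
  refine ⟨?_, ?_⟩
  · rw [MonObj.comp_mul, GrpObj.comp_inv, pt_toUnit, mul_inv_cancel, MonObj.one_eq_one]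
  · intro B _ hB g hg
    set c : X ⟶ A := toUnit X ≫ x₁ ≫ alb with hc
    set d : X ⟶ B := toUnit X ≫ x₀ ≫ g with hd
    have h0 : x₀ ≫ (g * d⁻¹) = η[B] := by
      rw [MonObj.comp_mul, GrpObj.comp_inv, hd, pt_toUnit, mul_inv_cancel, MonObj.one_eq_one]
    obtain ⟨h, ⟨hh, hcomp⟩, huniq⟩ := hB (g * d⁻¹) h0
    have hx1 : x₁ ≫ (g * d⁻¹) = (x₀ ≫ g)⁻¹ := by
      rw [MonObj.comp_mul, GrpObj.comp_inv, hd, pt_toUnit, hg, MonObj.one_eq_one, _root_.one_mul]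
    have hx0 : x₀ ≫ (alb * c⁻¹) = (x₁ ≫ alb)⁻¹ := by
      rw [MonObj.comp_mul, GrpObj.comp_inv, hc, pt_toUnit, halb, MonObj.one_eq_one, _root_.one_mul]
    refine ⟨h, ⟨hh, ?_⟩, ?_⟩
    · haveI := hh
      have hch : c ≫ h = d⁻¹ := by
        rw [hc, Category.assoc, Category.assoc, hcomp, hx1, GrpObj.comp_inv]
      rw [MonObj.mul_comp, GrpObj.inv_comp, hcomp, hch, _root_.inv_inv, inv_mul_cancel_right]
    · rintro h' ⟨hh', hc'⟩
      haveI := hh'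
      apply huniq h' ⟨hh', ?_⟩
      have hd' : d = (c ≫ h')⁻¹ := by
        rw [hd, ← hc', ← Category.assoc x₀, hx0, GrpObj.inv_comp, GrpObj.comp_inv, hc,
          Category.assoc, Category.assoc, Category.assoc]
      have h1 : alb = (alb * c⁻¹) * c := by rw [inv_mul_cancel_right]
      calc alb ≫ h' = ((alb * c⁻¹) * c) ≫ h' := by rw [← h1]
        _ = g * (c ≫ h') := by rw [MonObj.mul_comp, hc']
        _ = g * d⁻¹ := by rw [hd', _root_.inv_inv]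

end Groth.Agent.LD.Misc
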