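import Mathlib

/-! # Morphisms from a scheme with only constant global functions to affine schemes are constant. -/

set_option autoImplicit false
universe u
open CategoryTheory AlgebraicGeometry

namespace Groth.Agent.LD.Misc

/-- if `f : X ⟶ S` has a section `s` and induces an isomorphism on global functions, then every
morphism from `X` to an affine scheme factors through `f` (via `s`). -/
theorem comp_section_comp_eq_of_isAffine {X S W : Scheme.{u}} [IsAffine W] (f : X ⟶ S) (s : S ⟶ X)
    (hs : s ≫ f = 𝟙 S) [IsIso f.appTop] (m : X ⟶ W) : (f ≫ s) ≫ m = m := by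
  apply ext_of_isAffine
  have h1 : f.appTop ≫ s.appTop = 𝟙 _ := by
    rw [← Scheme.Hom.comp_appTop, hs]; rfl
  have h3 : s.appTop = inv f.appTop := by
    rw [← cancel_epi f.appTop, h1, IsIso.hom_inv_id]
  have h2 : s.appTop ≫ f.appTop = 𝟙 _ := by rw [h3, IsIso.inv_hom_id]
  rw [Scheme.Hom.comp_appTop, Scheme.Hom.comp_appTop, h2, Category.comp_id]

/-- same, for morphisms whose set-theoretic image is contained in an affine open. -/
theorem comp_section_comp_eq_of_range_subset {X S Z : Scheme.{u}} (f : X ⟶ S) (s : S ⟶ X)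
    (hs : s ≫ f = 𝟙 S) [IsIso f.appTop] (m : X ⟶ Z) (U : Z.Opens) (hU : IsAffineOpen U)
    (hm : Set.range m.base ⊆ (U : Set Z)) : (f ≫ s) ≫ m = m := by
  haveI : IsAffine (U : Scheme.{u}) := hU
  have hr : Set.range m ⊆ Set.range U.ι := by
    rw [Scheme.Opens.range_ι]; exact hm
  let j : X ⟶ (U : Scheme.{u}) := IsOpenImmersion.lift U.ι m hr
  have hj : j ≫ U.ι = m := IsOpenImmersion.lift_fac _ _ _
  rw [← hj, ← Category.assoc, comp_section_comp_eq_of_isAffine f s hs j]

/-- a morphism with subsingleton range from a scheme with a section and constant functions is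
constant. -/
theorem comp_section_comp_eq_of_subsingleton_range {X S Z : Scheme.{u}} (f : X ⟶ S) (s : S ⟶ X)
    (hs : s ≫ f = 𝟙 S) [IsIso f.appTop] [Nonempty S] (m : X ⟶ Z)
    (hm : (Set.range m.base).Subsingleton) : (f ≫ s) ≫ m = m := by
  obtain ⟨t⟩ := ‹Nonempty S›
  let z : Z := m.base (s.base t)
  obtain ⟨U, hU, hzU, -⟩ := exists_isAffineOpen_mem_and_subset (x := z) (U := ⊤) trivial
  apply comp_section_comp_eq_of_range_subset f s hs m U hU
  rintro _ ⟨x, rfl⟩
  have : m.base x = z := hm ⟨x, rfl⟩ ⟨s.base t, rfl⟩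
  rw [this]; exact hzU

end Groth.Agent.LD.Misc
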