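import Groth.Agent.Lib.Lead.Misc.AlbProd

/-! # Albanese-type universal morphisms: unpointed morphisms, triviality. -/

set_option autoImplicit false
open CategoryTheory MonoidalCategory CartesianMonoidalCategory MonObj GrpObj

namespace Groth.Agent.LD.Misc

variable {C : Type*} [Category C] [CartesianMonoidalCategory C]

/-- every morphism to a group `K` factors through the Albanese morphism up to a translation,
uniquely (uniqueness among all morphisms uses rigidity). -/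
theorem alb_unpointed {X A K : C} [GrpObj A] [GrpObj K] (rig : Rigid A A K)
    (x₀ : 𝟙_ C ⟶ X) (alb : X ⟶ A) (halb : x₀ ≫ alb = η[A])
    (hK : ∀ g : X ⟶ K, x₀ ≫ g = η[K] → ∃! h : A ⟶ K, IsMonHom h ∧ alb ≫ h = g)
    (φ : X ⟶ K) :
    ∃ h : A ⟶ K, IsMonHom h ∧ (alb ≫ h) * (toUnit X ≫ x₀ ≫ φ) = φ ∧
      ∀ g : A ⟶ K, alb ≫ g = φ → g = h * (toUnit A ≫ x₀ ≫ φ) := by
  set c : X ⟶ K := toUnit X ≫ x₀ ≫ φ with hc
  have h0 : x₀ ≫ (φ * c⁻¹) = η[K] := by
    rw [MonObj.comp_mul, GrpObj.comp_inv, hc, pt_toUnit', mul_inv_cancel, MonObj.one_eq_one]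
  obtain ⟨h, ⟨hh, hcomp⟩, huniq⟩ := hK (φ * c⁻¹) h0
  refine ⟨h, hh, ?_, ?_⟩
  · rw [hcomp, inv_mul_cancel_right]
  · intro g hg
    set cA : A ⟶ K := toUnit A ≫ x₀ ≫ φ with hcA
    have hpt : η[A] ≫ (g * cA⁻¹) = η[K] := by
      rw [MonObj.comp_mul, GrpObj.comp_inv, hcA, pt_toUnit', ← halb, Category.assoc, hg,
        mul_inv_cancel, MonObj.one_eq_one]
    have hmon : IsMonHom (g * cA⁻¹) := isMonHom_of_rigid rig _ hpt
    have hcomp' : alb ≫ (g * cA⁻¹) = φ * c⁻¹ := by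
      rw [MonObj.comp_mul, GrpObj.comp_inv, hg, hcA, ← Category.assoc,
        toUnit_unique (alb ≫ toUnit A) (toUnit X)]
    have := huniq (g * cA⁻¹) ⟨hmon, hcomp'⟩
    rw [← this, inv_mul_cancel_right]

/-- if the Albanese morphism is constant then the Albanese object is trivial. -/
theorem alb_trivial_of_const {X A : C} [GrpObj A]
    (x₀ : 𝟙_ C ⟶ X) (alb : X ⟶ A)
    (hA : ∀ g : X ⟶ A, x₀ ≫ g = η[A] → ∃! h : A ⟶ A, IsMonHom h ∧ alb ≫ h = g)
    (hconst : alb = toUnit X ≫ η[A]) : 𝟙 A = toUnit A ≫ η[A] := by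
  have h0 : x₀ ≫ alb = η[A] := by rw [hconst, pt_toUnit']
  obtain ⟨h, -, huniq⟩ := hA alb h0
  have e1 := huniq (𝟙 A) ⟨inferInstance, Category.comp_id _⟩
  have e2 := huniq (toUnit A ≫ η[A]) ⟨inferInstance, by
    rw [← Category.assoc, toUnit_unique (alb ≫ toUnit A) (toUnit X), hconst]⟩
  rw [e1, e2]

end Groth.Agent.LD.Misc
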