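import Mathlib

/-! # Albanese-type universal morphisms: products, homomorphisms from rigidity
(pure group-object algebra in a cartesian monoidal category, with rigidity as a hypothesis). -/

set_option autoImplicit false
open CategoryTheory MonoidalCategory CartesianMonoidalCategory MonObj GrpObj

namespace Groth.Agent.LD.Misc

variable {C : Type*} [Category C] [CartesianMonoidalCategory C]

/-- the rigidity property for a triple of objects. -/
def Rigid (V W U : C) : Prop :=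
  ∀ (f : V ⊗ W ⟶ U) (v₀ : 𝟙_ C ⟶ V) (w₀ : 𝟙_ C ⟶ W) (u₀ : 𝟙_ C ⟶ U),
    lift (𝟙 V) (toUnit V ≫ w₀) ≫ f = toUnit V ≫ u₀ →
    lift (toUnit W ≫ v₀) (𝟙 W) ≫ f = toUnit W ≫ u₀ → f = toUnit (V ⊗ W) ≫ u₀

lemma pt_toUnit' {X : C} (y : 𝟙_ C ⟶ X) {Z : C} (z : 𝟙_ C ⟶ Z) : y ≫ toUnit X ≫ z = z := by
  rw [← Category.assoc, toUnit_unique (y ≫ toUnit X) (𝟙 _), Category.id_comp]

lemma toUnit_eta {T K : C} [MonObj K] : toUnit T ≫ η[K] = (1 : T ⟶ K) := rfl

/-- a morphism is a monoid homomorphism as soon as it preserves the unit and the universal product. -/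
lemma isMonHom_of_mul {M N : C} [MonObj M] [MonObj N] (h : M ⟶ N) (h1 : η[M] ≫ h = η[N])
    (hm : (fst M M * snd M M) ≫ h = (fst M M ≫ h) * (snd M M ≫ h)) : IsMonHom h where
  one_hom := h1
  mul_hom := by
    rw [MonObj.mul_eq_mul M, hm, MonObj.mul_eq_mul N, MonObj.comp_mul, tensorHom_fst, tensorHom_snd]

/-- decomposition of a pointed morphism out of a product, from rigidity. -/
theorem prod_decomp {X Y K : C} [GrpObj K] (hrig : Rigid X Y K)
    (x₀ : 𝟙_ C ⟶ X) (y₀ : 𝟙_ C ⟶ Y) (g : X ⊗ Y ⟶ K) (hg : lift x₀ y₀ ≫ g = η[K]) :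
    g = (fst X Y ≫ lift (𝟙 X) (toUnit X ≫ y₀) ≫ g) * (snd X Y ≫ lift (toUnit Y ≫ x₀) (𝟙 Y) ≫ g) := by
  set g₁ : X ⟶ K := lift (𝟙 X) (toUnit X ≫ y₀) ≫ g with hg₁
  set g₂ : Y ⟶ K := lift (toUnit Y ≫ x₀) (𝟙 Y) ≫ g with hg₂
  have hx : x₀ ≫ g₁ = 1 := by
    rw [hg₁, ← Category.assoc, comp_lift, Category.comp_id, pt_toUnit', hg, MonObj.one_eq_one]
  have hy : y₀ ≫ g₂ = 1 := by
    rw [hg₂, ← Category.assoc, comp_lift, Category.comp_id, pt_toUnit', hg, MonObj.one_eq_one]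
  have key := hrig (g * ((fst X Y ≫ g₁) * (snd X Y ≫ g₂))⁻¹) x₀ y₀ η[K] ?_ ?_
  · rw [toUnit_eta] at key
    exact mul_inv_eq_one.1 key
  · rw [MonObj.comp_mul, GrpObj.comp_inv, MonObj.comp_mul, ← hg₁, ← Category.assoc, lift_fst,
      Category.id_comp, ← Category.assoc, lift_snd, Category.assoc, hy, MonObj.comp_one,
      _root_.mul_one, mul_inv_cancel, toUnit_eta]
  · rw [MonObj.comp_mul, GrpObj.comp_inv, MonObj.comp_mul, ← hg₂, ← Category.assoc, lift_fst,
      ← Category.assoc (lift _ _), lift_snd, Category.id_comp, Category.assoc, hx, MonObj.comp_one,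
      _root_.one_mul, mul_inv_cancel, toUnit_eta]

/-- from rigidity: a pointed morphism between group objects is a homomorphism. -/
theorem isMonHom_of_rigid {A K : C} [GrpObj A] [GrpObj K] (hrig : Rigid A A K)
    (g : A ⟶ K) (hg : η[A] ≫ g = η[K]) : IsMonHom g := by
  apply isMonHom_of_mul g hg
  have h0 : lift η[A] η[A] ≫ ((fst A A * snd A A) ≫ g) = η[K] := by
    rw [← Category.assoc, MonObj.comp_mul, lift_fst, lift_snd, MonObj.one_eq_one, _root_.one_mul,
      ← MonObj.one_eq_one, hg]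
  have key := prod_decomp hrig η[A] η[A] ((fst A A * snd A A) ≫ g) h0
  have e1 : lift (𝟙 A) (toUnit A ≫ η[A]) ≫ (fst A A * snd A A) = 𝟙 A := by
    rw [MonObj.comp_mul, lift_fst, lift_snd, toUnit_eta, _root_.mul_one]
  have e2 : lift (toUnit A ≫ η[A]) (𝟙 A) ≫ (fst A A * snd A A) = 𝟙 A := by
    rw [MonObj.comp_mul, lift_fst, lift_snd, toUnit_eta, _root_.one_mul]
  rw [← Category.assoc (lift (𝟙 A) _), e1, ← Category.assoc (lift _ (𝟙 A)), e2,
    Category.id_comp] at key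
  exact key

section Prod

variable [BraidedCategory C]

/-- the Albanese morphism of a product is the product of the Albanese morphisms (universal
property against one target `K`, with rigidity as hypotheses). -/
theorem alb_prod {X Y A B K : C} [GrpObj A] [GrpObj B] [GrpObj K]
    (rigXY : Rigid X Y K) (rigAB : Rigid A B K)
    (x₀ : 𝟙_ C ⟶ X) (y₀ : 𝟙_ C ⟶ Y) (albX : X ⟶ A) (albY : Y ⟶ B)
    (halbX : x₀ ≫ albX = η[A]) (halbY : y₀ ≫ albY = η[B])
    (hA : ∀ g : X ⟶ K, x₀ ≫ g = η[K] → ∃! h : A ⟶ K, IsMonHom h ∧ albX ≫ h = g)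
    (hB : ∀ g : Y ⟶ K, y₀ ≫ g = η[K] → ∃! h : B ⟶ K, IsMonHom h ∧ albY ≫ h = g)
    (g : X ⊗ Y ⟶ K) (hg : lift x₀ y₀ ≫ g = η[K]) :
    ∃! h : A ⊗ B ⟶ K, IsMonHom h ∧ (albX ⊗ₘ albY) ≫ h = g := by
  set g₁ : X ⟶ K := lift (𝟙 X) (toUnit X ≫ y₀) ≫ g with hg₁
  set g₂ : Y ⟶ K := lift (toUnit Y ≫ x₀) (𝟙 Y) ≫ g with hg₂
  have hx : x₀ ≫ g₁ = η[K] := by
    rw [hg₁, ← Category.assoc, comp_lift, Category.comp_id, pt_toUnit', hg]
  have hy : y₀ ≫ g₂ = η[K] := by
    rw [hg₂, ← Category.assoc, comp_lift, Category.comp_id, pt_toUnit', hg]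
  have hdec : g = (fst X Y ≫ g₁) * (snd X Y ≫ g₂) := prod_decomp rigXY x₀ y₀ g hg
  obtain ⟨h₁, ⟨hh₁, hc₁⟩, hu₁⟩ := hA g₁ hx
  obtain ⟨h₂, ⟨hh₂, hc₂⟩, hu₂⟩ := hB g₂ hy
  haveI := hh₁
  haveI := hh₂
  set a : A ⊗ B ⟶ K := fst A B ≫ h₁ with ha
  set b : A ⊗ B ⟶ K := snd A B ≫ h₂ with hb
  let j₁ : A ⟶ A ⊗ B := lift (𝟙 A) (toUnit A ≫ η[B])
  let j₂ : B ⟶ A ⊗ B := lift (toUnit B ≫ η[A]) (𝟙 B)
  have j₁a : j₁ ≫ a = h₁ := by rw [ha, ← Category.assoc, lift_fst, Category.id_comp]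
  have j₁b : j₁ ≫ b = 1 := by
    rw [hb, ← Category.assoc, lift_snd, Category.assoc, IsMonHom.one_hom, toUnit_eta]
  have j₂a : j₂ ≫ a = 1 := by
    rw [ha, ← Category.assoc, lift_fst, Category.assoc, IsMonHom.one_hom, toUnit_eta]
  have j₂b : j₂ ≫ b = h₂ := by rw [hb, ← Category.assoc, lift_snd, Category.id_comp]
  -- commutation
  have hcomm : a * b = b * a := by
    have key := rigAB (a * b * a⁻¹ * b⁻¹) η[A] η[B] η[K] ?_ ?_
    · rw [toUnit_eta] at key
      have := mul_inv_eq_one.1 key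
      exact mul_inv_eq_iff_eq_mul.1 this
    · change j₁ ≫ _ = _
      rw [MonObj.comp_mul, MonObj.comp_mul, MonObj.comp_mul, GrpObj.comp_inv, GrpObj.comp_inv,
        j₁a, j₁b, _root_.mul_one, mul_inv_cancel, inv_one, _root_.mul_one, toUnit_eta]
    · change j₂ ≫ _ = _
      rw [MonObj.comp_mul, MonObj.comp_mul, MonObj.comp_mul, GrpObj.comp_inv, GrpObj.comp_inv,
        j₂a, j₂b, _root_.one_mul, inv_one, _root_.mul_one, mul_inv_cancel, toUnit_eta]
  have hcomm' : ∀ {T : C} (s t : T ⟶ A ⊗ B), (s ≫ a) * (t ≫ b) = (t ≫ b) * (s ≫ a) := by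
    intro T s t
    have := congrArg (fun φ => lift (s ≫ fst A B) (t ≫ snd A B) ≫ φ) hcomm
    simp only [MonObj.comp_mul] at this
    rw [ha, hb] at this ⊢
    simpa only [← Category.assoc, lift_fst, lift_snd] using this
  have hmon : IsMonHom (a * b) := by
    apply isMonHom_of_mul
    · rw [MonObj.comp_mul, ha, hb, ← Category.assoc, IsMonHom.one_hom (f := fst A B),
        ← Category.assoc, IsMonHom.one_hom (f := snd A B), IsMonHom.one_hom, IsMonHom.one_hom,
        MonObj.one_eq_one, _root_.mul_one]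
    · set p := fst (A ⊗ B) (A ⊗ B)
      set q := snd (A ⊗ B) (A ⊗ B)
      rw [MonObj.comp_mul, MonObj.comp_mul p, MonObj.comp_mul q]
      rw [show (p * q) ≫ a = (p ≫ a) * (q ≫ a) by
        rw [ha, ← Category.assoc, MonObj.mul_comp, MonObj.mul_comp, Category.assoc, Category.assoc]]
      rw [show (p * q) ≫ b = (p ≫ b) * (q ≫ b) by
        rw [hb, ← Category.assoc, MonObj.mul_comp, MonObj.mul_comp, Category.assoc, Category.assoc]]
      rw [_root_.mul_assoc, ← _root_.mul_assoc (q ≫ a), hcomm' q p, _root_.mul_assoc, ← _root_.mul_assoc]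
  have hcomp : (albX ⊗ₘ albY) ≫ (a * b) = g := by
    rw [MonObj.comp_mul, ha, hb, ← Category.assoc, tensorHom_fst, ← Category.assoc (albX ⊗ₘ albY),
      tensorHom_snd, Category.assoc, Category.assoc, hc₁, hc₂]
    exact hdec.symm
  refine ⟨a * b, ⟨hmon, hcomp⟩, ?_⟩
  rintro h' ⟨hh', hc'⟩
  haveI := hh'
  have hid : 𝟙 (A ⊗ B) = (fst A B ≫ j₁) * (snd A B ≫ j₂) := by
    apply CartesianMonoidalCategory.hom_ext
    · rw [Category.id_comp, MonObj.mul_comp, Category.assoc, Category.assoc, lift_fst, lift_fst,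
        Category.comp_id, toUnit_eta, MonObj.comp_one, _root_.mul_one]
    · rw [Category.id_comp, MonObj.mul_comp, Category.assoc, Category.assoc, lift_snd, lift_snd,
        Category.comp_id, toUnit_eta, MonObj.comp_one, _root_.one_mul]
  have e₁ : j₁ ≫ h' = h₁ := by
    apply hu₁
    refine ⟨inferInstance, ?_⟩
    rw [hg₁, ← hc', ← Category.assoc, ← Category.assoc]
    congr 1
    apply CartesianMonoidalCategory.hom_ext
    · simp [j₁]
    · simp only [j₁, Category.assoc, lift_snd, tensorHom_snd]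
      rw [← Category.assoc (lift _ _), lift_snd, Category.assoc, halbY, ← Category.assoc,
        toUnit_unique (albX ≫ toUnit A) (toUnit X)]
  have e₂ : j₂ ≫ h' = h₂ := by
    apply hu₂
    refine ⟨inferInstance, ?_⟩
    rw [hg₂, ← hc', ← Category.assoc, ← Category.assoc]
    congr 1
    apply CartesianMonoidalCategory.hom_ext
    · simp only [j₂, Category.assoc, lift_fst, tensorHom_fst]
      rw [← Category.assoc (lift _ _), lift_fst, Category.assoc, halbX, ← Category.assoc,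
        toUnit_unique (albY ≫ toUnit B) (toUnit Y)]
    · simp [j₂]
  calc h' = 𝟙 _ ≫ h' := (Category.id_comp _).symm
    _ = ((fst A B ≫ j₁) * (snd A B ≫ j₂)) ≫ h' := by rw [← hid]
    _ = a * b := by
        rw [MonObj.mul_comp, Category.assoc, Category.assoc, e₁, e₂]

end Prod

end Groth.Agent.LD.Misc
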