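import Mathlib

/-! # Morphisms inducing injections on functions are epimorphisms towards separated targets;
the universal property of an Albanese morphism passes to a Stein factor. -/

set_option autoImplicit false
universe u
open CategoryTheory Limits AlgebraicGeometry MonoidalCategory CartesianMonoidalCategory MonObj

namespace Groth.Agent.LD.Misc

theorem ker_eq_bot_of_app_injective {X Y : Scheme.{u}} (r : X ⟶ Y)
    (hr : ∀ U : Y.Opens, Function.Injective (r.app U).hom) : r.ker = ⊥ := by
  rw [eq_bot_iff]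
  intro U
  refine (Scheme.Hom.ideal_ker_le r U).trans ?_
  rw [(RingHom.injective_iff_ker_eq_bot _).mp (hr U.1)]
  exact bot_le

/-- a morphism which is injective on functions is an epimorphism towards separated targets. -/
theorem over_cancel_of_ker_eq_bot {S : Scheme.{u}} {X Y B : Over S} [IsSeparated B.hom]
    (r : X ⟶ Y) (hr : r.left.ker = ⊥) (a b : Y ⟶ B) (h : r ≫ a = r ≫ b) : a = b := by
  have hclosed : IsClosedImmersion (equalizer.ι a b).left := inferInstance
  let l : X ⟶ equalizer a b := equalizer.lift r h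
  have hl : l ≫ equalizer.ι a b = r := equalizer.lift_ι _ _
  have hker : (equalizer.ι a b).left.ker = ⊥ := by
    rw [eq_bot_iff, ← hr, ← hl]
    exact Scheme.Hom.le_ker_comp l.left (equalizer.ι a b).left
  haveI : IsIso (equalizer.ι a b).left := IsClosedImmersion.isIso_iff_ker_eq_bot.mpr hker
  haveI : IsIso ((Over.forget S).map (equalizer.ι a b)) :=
    ‹IsIso (equalizer.ι a b).left›
  haveI : IsIso (equalizer.ι a b) := isIso_of_reflects_iso _ (Over.forget S)
  rw [← cancel_epi (equalizer.ι a b)]
  exact equalizer.condition a b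

/-- the universal property of an Albanese-type morphism passes to a factor `Y` of `X → A` through
which `X → Y` is an epimorphism towards `K`. -/
theorem alb_factor {C : Type*} [Category C] [CartesianMonoidalCategory C]
    {X Y A K : C} [GrpObj A] [GrpObj K] (alb : X ⟶ A) (r : X ⟶ Y) (s : Y ⟶ A) (hrs : r ≫ s = alb)
    (hcancel : ∀ a b : Y ⟶ K, r ≫ a = r ≫ b → a = b)
    (g : Y ⟶ K) (hK : ∃! h : A ⟶ K, IsMonHom h ∧ alb ≫ h = r ≫ g) :
    ∃! h : A ⟶ K, IsMonHom h ∧ s ≫ h = g := by
  obtain ⟨h, ⟨hh, hc⟩, hu⟩ := hK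
  refine ⟨h, ⟨hh, ?_⟩, ?_⟩
  · apply hcancel
    rw [← Category.assoc, hrs, hc]
  · rintro h' ⟨hh', hc'⟩
    apply hu h' ⟨hh', ?_⟩
    rw [← hrs, Category.assoc, hc']

end Groth.Agent.LD.Misc
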