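import Mathlib

/-! # Constant sheaves: `H⁰(B̲) → H⁰(C̲)` is surjective for a surjection `B → C`. -/

universe u
open CategoryTheory Limits Opposite Abelian

namespace Groth.Agent.LD.ConstSheaf

variable {C : Type u} [SmallCategory C] (J : GrothendieckTopology C)

noncomputable instance : PreservesFiniteLimits (constantSheaf J AddCommGrpCat.{u}) := by
  unfold constantSheaf
  infer_instance

noncomputable instance : PreservesFiniteColimits (constantSheaf J AddCommGrpCat.{u}) := by
  unfold constantSheaf
  infer_instance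

instance : (constantSheaf J AddCommGrpCat.{u}).Additive := by
  unfold constantSheaf
  infer_instance

/-- comparison between the underlying sheaf of sets of a constant abelian sheaf and the constant
sheaf of sets. -/
noncomputable def e (M : AddCommGrpCat.{u}) :
    (presheafToSheaf J (Type u)).obj ((Functor.const Cᵒᵖ).obj M ⋙ forget AddCommGrpCat.{u}) ≅
      (sheafCompose J (forget AddCommGrpCat.{u})).obj ((constantSheaf J AddCommGrpCat.{u}).obj M) :=
  (sheafComposeNatIso J (forget AddCommGrpCat.{u}) (sheafificationAdjunction J AddCommGrpCat.{u})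
    (sheafificationAdjunction J (Type u))).app ((Functor.const Cᵒᵖ).obj M)

lemma e_naturality {M N : AddCommGrpCat.{u}} (g : M ⟶ N) :
    (e J M).hom ≫ (sheafCompose J (forget AddCommGrpCat.{u})).map
      ((constantSheaf J AddCommGrpCat.{u}).map g) =
    (presheafToSheaf J (Type u)).map
      (Functor.whiskerRight ((Functor.const Cᵒᵖ).map g) (forget AddCommGrpCat.{u})) ≫
      (e J N).hom :=
  ((sheafComposeNatIso J (forget AddCommGrpCat.{u}) (sheafificationAdjunction J AddCommGrpCat.{u})
    (sheafificationAdjunction J (Type u))).hom.naturality ((Functor.const Cᵒᵖ).map g)).symm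

/-- the map of constant presheaves of sets induced by a map of sets. -/
def constMap {M N : AddCommGrpCat.{u}} (σ : M → N) :
    ((Functor.const Cᵒᵖ).obj M ⋙ forget AddCommGrpCat.{u}) ⟶
      ((Functor.const Cᵒᵖ).obj N ⋙ forget AddCommGrpCat.{u}) where
  app _ := TypeCat.ofHom σ
  naturality _ _ _ := rfl

/-- the map of underlying sheaves of sets of constant sheaves induced by a map of sets. -/
noncomputable def setMap {M N : AddCommGrpCat.{u}} (σ : M → N) :
    (sheafCompose J (forget AddCommGrpCat.{u})).obj ((constantSheaf J AddCommGrpCat.{u}).obj M) ⟶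
    (sheafCompose J (forget AddCommGrpCat.{u})).obj ((constantSheaf J AddCommGrpCat.{u}).obj N) :=
  (e J M).inv ≫ (presheafToSheaf J (Type u)).map (constMap σ) ≫ (e J N).hom

lemma setMap_comp {M N : AddCommGrpCat.{u}} (σ : N → M) (g : M ⟶ N)
    (h : ∀ x, g (σ x) = x) :
    setMap J σ ≫ (sheafCompose J (forget AddCommGrpCat.{u})).map
      ((constantSheaf J AddCommGrpCat.{u}).map g) = 𝟙 _ := by
  unfold setMap
  rw [Category.assoc, Category.assoc, e_naturality, ← Functor.map_comp_assoc]
  have : constMap (C := C) σ ≫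
      Functor.whiskerRight ((Functor.const Cᵒᵖ).map g) (forget AddCommGrpCat.{u}) = 𝟙 _ := by
    ext U x
    exact h x
  rw [this, CategoryTheory.Functor.map_id, Category.id_comp, Iso.inv_hom_id]

section Lift

variable {M N : AddCommGrpCat.{u}} (g : M ⟶ N) (σ : N → M) (h : ∀ x, g (σ x) = x)

/-- the abelian sheaf `ℤ̲`. -/
noncomputable abbrev Zc : Sheaf J AddCommGrpCat.{u} :=
  (constantSheaf J AddCommGrpCat.{u}).obj (AddCommGrpCat.of (ULift ℤ))

/-- the section of the constant sheaf on `M` -/
noncomputable abbrev sec : ∀ U : Cᵒᵖ, ((constantSheaf J AddCommGrpCat.{u}).obj N).obj.obj U →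
    ((constantSheaf J AddCommGrpCat.{u}).obj M).obj.obj U := fun U =>
  ((setMap J σ).hom.app U)

include h in
lemma map_sec (U : Cᵒᵖ) (x : ((constantSheaf J AddCommGrpCat.{u}).obj N).obj.obj U) :
    ((constantSheaf J AddCommGrpCat.{u}).map g).hom.app U (sec J σ U x) = x := by
  have := setMap_comp J σ g h
  have h2 := congrArg (fun t => t.hom.app U) this
  exact ConcreteCategory.congr_hom h2 x

lemma sec_naturality {U V : Cᵒᵖ} (i : U ⟶ V)
    (x : ((constantSheaf J AddCommGrpCat.{u}).obj N).obj.obj U) :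
    ((constantSheaf J AddCommGrpCat.{u}).obj M).obj.map i (sec J σ U x) =
      sec J σ V (((constantSheaf J AddCommGrpCat.{u}).obj N).obj.map i x) :=
  (ConcreteCategory.congr_hom ((setMap J σ).hom.naturality i) x).symm

variable (φ' : (Functor.const Cᵒᵖ).obj (AddCommGrpCat.of (ULift.{u} ℤ)) ⟶
  ((constantSheaf J AddCommGrpCat.{u}).obj N).obj)

/-- the lifted map of presheaves. -/
noncomputable def lift' : (Functor.const Cᵒᵖ).obj (AddCommGrpCat.of (ULift.{u} ℤ)) ⟶
    ((constantSheaf J AddCommGrpCat.{u}).obj M).obj where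
  app U := AddCommGrpCat.ofHom
    ((zmultiplesHom _ (sec J σ U (φ'.app U ⟨1⟩))).comp AddEquiv.ulift.toAddMonoidHom)
  naturality U V i := by
    ext n
    have h1 : ((constantSheaf J AddCommGrpCat.{u}).obj N).obj.map i (φ'.app U ⟨1⟩) =
        φ'.app V ⟨1⟩ := (ConcreteCategory.congr_hom (φ'.naturality i) ⟨1⟩).symm
    change n.down • sec J σ V (φ'.app V ⟨1⟩) =
      ((constantSheaf J AddCommGrpCat.{u}).obj M).obj.map i (n.down • sec J σ U (φ'.app U ⟨1⟩))
    rw [map_zsmul, sec_naturality, h1]

include h in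
lemma lift'_comp : lift' J σ φ' ≫
    (sheafToPresheaf J AddCommGrpCat.{u}).map ((constantSheaf J AddCommGrpCat.{u}).map g) = φ' := by
  ext U n
  change ((constantSheaf J AddCommGrpCat.{u}).map g).hom.app U
    (n.down • sec J σ U (φ'.app U ⟨1⟩)) = φ'.app U n
  rw [map_zsmul, map_sec J g σ h, ← map_zsmul]
  congr 1
  apply ULift.ext
  simp

include h in
lemma exists_lift (φ : Zc J ⟶ (constantSheaf J AddCommGrpCat.{u}).obj N) :
    ∃ ψ : Zc J ⟶ (constantSheaf J AddCommGrpCat.{u}).obj M,
      ψ ≫ (constantSheaf J AddCommGrpCat.{u}).map g = φ := by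
  let adj := sheafificationAdjunction J AddCommGrpCat.{u}
  refine ⟨(adj.homEquiv _ _).symm (lift' J σ (adj.homEquiv _ _ φ)), ?_⟩
  apply (adj.homEquiv _ _).injective
  refine (adj.homEquiv_naturality_right _ _).trans ?_
  refine Eq.trans ?_ (lift'_comp J g σ h _)
  congr 1
  exact Equiv.apply_symm_apply _ _

end Lift

end Groth.Agent.LD.ConstSheaf

namespace Groth.Agent.LD.ConstSheaf

open CategoryTheory.Abelian

variable {C : Type u} [SmallCategory C] (J : GrothendieckTopology C)

theorem H1_injective {A B : Type u} [AddCommGroup A] [AddCommGroup B] (f : A →+ B)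
    (hf : Function.Injective f) :
    Function.Injective
      (Sheaf.H.map ((constantSheaf J AddCommGrpCat.{u}).map (AddCommGrpCat.ofHom f)) 1) := by
  let fA : AddCommGrpCat.of A ⟶ AddCommGrpCat.of B := AddCommGrpCat.ofHom f
  let S : ShortComplex AddCommGrpCat.{u} := ShortComplex.mk fA (cokernel.π fA) (cokernel.condition _)
  haveI : Mono fA := (AddCommGrpCat.mono_iff_injective _).2 hf
  have hS : S.ShortExact :=
    { exact := ShortComplex.exact_cokernel fA
      mono_f := inferInstanceAs (Mono fA)
      epi_g := inferInstanceAs (Epi (cokernel.π fA)) }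
  have hS' : (S.map (constantSheaf J AddCommGrpCat.{u})).ShortExact :=
    hS.map_of_exact (constantSheaf J AddCommGrpCat.{u})
  have hg : Function.Surjective (cokernel.π fA) :=
    (AddCommGrpCat.epi_iff_surjective _).1 inferInstance
  rw [injective_iff_map_eq_zero]
  intro x hx
  rw [Sheaf.H.map_apply] at hx
  obtain ⟨x₃, rfl⟩ := Ext.covariant_sequence_exact₁ _ hS' x hx (zero_add 1)
  obtain ⟨φ, rfl⟩ := (Ext.mk₀_bijective _ _).surjective x₃
  obtain ⟨ψ, rfl⟩ := exists_lift J (cokernel.π fA) (Function.surjInv hg)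
    (Function.surjInv_eq hg) φ
  have h1 : (Ext.mk₀ ((constantSheaf J AddCommGrpCat.{u}).map (cokernel.π fA))).comp
      hS'.extClass (zero_add 1) = 0 := hS'.comp_extClass
  have h2 : Ext.mk₀ (ψ ≫ (constantSheaf J AddCommGrpCat.{u}).map (cokernel.π fA)) =
      (Ext.mk₀ ψ).comp (Ext.mk₀ ((constantSheaf J AddCommGrpCat.{u}).map (cokernel.π fA)))
        (add_zero 0) := (Ext.mk₀_comp_mk₀ _ _).symm
  refine (congrArg (fun t => t.comp hS'.extClass (zero_add 1)) h2).trans ?_
  refine (Ext.comp_assoc_of_second_deg_zero _ _ _ _).trans ?_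
  exact (congrArg (fun t => (Ext.mk₀ ψ).comp t (zero_add 1)) h1).trans (Ext.comp_zero _ _ _ _ _)

end Groth.Agent.LD.ConstSheaf
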