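import Mathlib
import Groth.Agent.Lib.Helper9.Misc.KLE2

/-! Lead: fixed loci for families of endomorphisms stabilising every open (S19969).
The equalizer of two morphisms `α β : P ⟶ X` over `S` is a closed immersion as soon as `P` is
covered by opens that both `α` and `β` map into a common affine open of `X`. -/

set_option linter.style.haveILetI false
set_option linter.unusedSectionVars false

namespace Groth.Agent.LD.Misc

universe u

open CategoryTheory CategoryTheory.Limits AlgebraicGeometry MonoidalCategory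
  CartesianMonoidalCategory

section Eq

variable {S : Scheme.{u}} {P X : Over S} (α β : P ⟶ X)

/-- lifting property of the equalizer in `Over S`, at the level of schemes -/
theorem exists_lift_equalizer_left {T : Scheme.{u}} (t : T ⟶ P.left)
    (h : t ≫ α.left = t ≫ β.left) : ∃ u : T ⟶ (equalizer α β).left, u ≫ (equalizer.ι α β).left = t := by
  let T' : Over S := Over.mk (t ≫ P.hom)
  let t' : T' ⟶ P := Over.homMk t rfl
  have h' : t' ≫ α = t' ≫ β := by
    apply Over.OverMorphism.ext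
    exact h
  exact ⟨(equalizer.lift t' h').left, by rw [← Over.comp_left, equalizer.lift_ι]; rfl⟩

theorem equalizer_left_condition :
    (equalizer.ι α β).left ≫ α.left = (equalizer.ι α β).left ≫ β.left := by
  rw [← Over.comp_left, ← Over.comp_left, equalizer.condition]

/-- restriction of the equalizer to an open mapped into a common affine open is a closed immersion -/
theorem isClosedImmersion_restrict_equalizer (V : P.left.Opens) (U : X.left.Opens)
    (hU : IsAffineOpen U) (hα : V ≤ α.left ⁻¹ᵁ U) (hβ : V ≤ β.left ⁻¹ᵁ U) :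
    IsClosedImmersion ((equalizer.ι α β).left ∣_ V) := by
  set ι := (equalizer.ι α β).left with hι
  haveI : IsAffine (U : Scheme.{u}) := hU
  have hrα : Set.range (V.ι ≫ α.left) ⊆ Set.range U.ι := by
    rintro _ ⟨x, rfl⟩
    rw [Scheme.Opens.range_ι]
    exact hα x.2
  have hrβ : Set.range (V.ι ≫ β.left) ⊆ Set.range U.ι := by
    rintro _ ⟨x, rfl⟩
    rw [Scheme.Opens.range_ι]
    exact hβ x.2
  let a' : (V : Scheme.{u}) ⟶ U := IsOpenImmersion.lift U.ι (V.ι ≫ α.left) hrα
  let b' : (V : Scheme.{u}) ⟶ U := IsOpenImmersion.lift U.ι (V.ι ≫ β.left) hrβ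
  have ha' : a' ≫ U.ι = V.ι ≫ α.left := IsOpenImmersion.lift_fac _ _ _
  have hb' : b' ≫ U.ι = V.ι ≫ β.left := IsOpenImmersion.lift_fac _ _ _
  let c := equalizer.ι a' b'
  haveI : IsClosedImmersion c := inferInstance
  have hres : (ι ∣_ V) ≫ V.ι = (ι ⁻¹ᵁ V).ι ≫ ι := morphismRestrict_ι ι V
  haveI : Mono ι := by rw [hι]; infer_instance
  haveI : Mono (ι ∣_ V) := by
    haveI : Mono ((ι ∣_ V) ≫ V.ι) := by rw [hres]; infer_instance
    exact mono_of_mono (ι ∣_ V) V.ι
  have hcond : (ι ∣_ V) ≫ a' = (ι ∣_ V) ≫ b' := by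
    rw [← cancel_mono U.ι, Category.assoc, Category.assoc, ha', hb', ← Category.assoc,
      ← Category.assoc, hres, Category.assoc, Category.assoc, equalizer_left_condition]
  let φ : (ι ⁻¹ᵁ V : Scheme.{u}) ⟶ equalizer a' b' := equalizer.lift (ι ∣_ V) hcond
  have hφ : φ ≫ c = ι ∣_ V := equalizer.lift_ι _ _
  have hc2 : (c ≫ V.ι) ≫ α.left = (c ≫ V.ι) ≫ β.left := by
    rw [Category.assoc, Category.assoc, ← ha', ← hb', ← Category.assoc, ← Category.assoc,
      equalizer.condition]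
  obtain ⟨u, hu⟩ := exists_lift_equalizer_left α β (c ≫ V.ι) hc2
  have hru : Set.range u ⊆ Set.range (ι ⁻¹ᵁ V).ι := by
    rintro _ ⟨x, rfl⟩
    rw [Scheme.Opens.range_ι]
    change ι (u x) ∈ V
    have : ι (u x) = V.ι (c x) := by
      rw [← Scheme.Hom.comp_apply, ← Scheme.Hom.comp_apply]
      exact congrArg (fun m => m x) hu
    rw [this]
    exact (c x).2
  let ψ : equalizer a' b' ⟶ (ι ⁻¹ᵁ V : Scheme.{u}) := IsOpenImmersion.lift (ι ⁻¹ᵁ V).ι u hru
  have hψ0 : ψ ≫ (ι ⁻¹ᵁ V).ι = u := IsOpenImmersion.lift_fac _ _ _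
  have hψ : ψ ≫ (ι ∣_ V) = c := by
    rw [← cancel_mono V.ι, Category.assoc, hres, ← Category.assoc, hψ0, hu]
  have h1 : φ ≫ ψ = 𝟙 _ := by
    rw [← cancel_mono (ι ∣_ V), Category.assoc, hψ, hφ, Category.id_comp]
  have h2 : ψ ≫ φ = 𝟙 _ := by
    rw [← cancel_mono c, Category.assoc, hφ, hψ, Category.id_comp]
  haveI : IsIso φ := ⟨ψ, h1, h2⟩
  rw [← hφ]
  infer_instance

/-- the equalizer is a closed immersion if `β`-preimages of affine opens are mapped by `α` into
the same affine open -/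
theorem isClosedImmersion_equalizer_of_stable
    (h : ∀ U : X.left.Opens, β.left ⁻¹ᵁ U ≤ α.left ⁻¹ᵁ U) :
    IsClosedImmersion (equalizer.ι α β).left := by
  refine IsZariskiLocalAtTarget.of_iSup_eq_top (P := @IsClosedImmersion)
    (fun U : X.left.affineOpens => β.left ⁻¹ᵁ U.1) ?_ ?_
  · have := iSup_affineOpens_eq_top X.left
    rw [← Scheme.Hom.preimage_iSup, this, Scheme.Hom.preimage_top]
  · intro U
    exact isClosedImmersion_restrict_equalizer α β _ U.1 U.2 (h U.1) le_rfl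

end Eq

variable {k : Type u} [Field k]

open Groth.Agent.H9.KL in
/-- Equalizer form of helper9's key lemma, with the closed immersion as a hypothesis. -/
theorem exists_closed_equalizer' (W X Y : Over (Spec (CommRingCat.of k)))
    (α β : W ⊗ X ⟶ Y) (hcl : IsClosedImmersion (equalizer.ι α β).left) :
    ∃ (Z : Over (Spec (CommRingCat.of k))) (ζ : Z ⟶ W), IsClosedImmersion ζ.left ∧
      ∀ (T : Over (Spec (CommRingCat.of k))) (t : T ⟶ W),
        (∃ l : T ⟶ Z, l ≫ ζ = t) ↔ (t ▷ X) ≫ α = (t ▷ X) ≫ β := by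
  obtain ⟨Z, ζ, hζ, H⟩ := exists_closed_over W X (equalizer.ι α β).left
  refine ⟨Z, ζ, hζ, fun T t => (H T t).trans ?_⟩
  constructor
  · rintro ⟨l', hl'⟩
    have hw : l' ≫ (equalizer α β).hom = (T ⊗ X).hom := by
      rw [← Over.w (equalizer.ι α β), ← Category.assoc, hl', Over.w]
    have e : (Over.homMk l' hw : T ⊗ X ⟶ equalizer α β) ≫ equalizer.ι α β = t ▷ X := by
      apply Over.OverMorphism.ext
      exact hl'
    rw [← e, Category.assoc, Category.assoc, equalizer.condition]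
  · intro h
    exact ⟨(equalizer.lift (t ▷ X) h).left, by
      rw [← Over.comp_left, equalizer.lift_ι]⟩

/-- Representability of the "fixed point" functor by a closed subscheme, when every open of `X`
is stable. -/
theorem exists_fixed_of_stable (X Y : Over (Spec (CommRingCat.of k))) (a : Y ⊗ X ⟶ X)
    (hstab : ∀ U : X.left.Opens, (snd Y X).left ⁻¹ᵁ U ≤ a.left ⁻¹ᵁ U) :
    ∃ (Z : Over (Spec (CommRingCat.of k))) (j : Z ⟶ X), IsClosedImmersion j.left ∧
      ∀ (T : Over (Spec (CommRingCat.of k))) (x : T ⟶ X),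
        (∃ z : T ⟶ Z, z ≫ j = x) ↔ (Y ◁ x) ≫ a = snd Y T ≫ x := by
  have hcl : IsClosedImmersion (equalizer.ι ((β_ X Y).hom ≫ a) (fst X Y)).left := by
    apply isClosedImmersion_equalizer_of_stable
    intro U
    have h1 : (fst X Y).left = (β_ X Y).hom.left ≫ (snd Y X).left := by
      rw [← Over.comp_left, braiding_hom_snd]
    rw [Over.comp_left, Scheme.Hom.comp_preimage, h1, Scheme.Hom.comp_preimage]
    exact Scheme.Hom.preimage_mono _ (hstab U)
  obtain ⟨Z, ζ, hζ, H⟩ := exists_closed_equalizer' X Y X ((β_ X Y).hom ≫ a) (fst X Y) hcl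
  refine ⟨Z, ζ, hζ, fun T x ↦ (H T x).trans ?_⟩
  have e1 : (x ▷ Y) ≫ (β_ X Y).hom ≫ a = (β_ T Y).hom ≫ (Y ◁ x) ≫ a := by
    rw [← Category.assoc, ← Category.assoc, BraidedCategory.braiding_naturality_left]
  have e2 : (x ▷ Y) ≫ fst X Y = (β_ T Y).hom ≫ snd Y T ≫ x := by
    rw [whiskerRight_fst, ← Category.assoc, braiding_hom_snd]
  rw [e1, e2]
  exact cancel_epi _

theorem S19969_main (X Y : Over (Spec (CommRingCat.of k))) (a : Y ⊗ X ⟶ X)
    (hstab : ∀ U : X.left.Opens, (snd Y X).left ⁻¹ᵁ U ≤ a.left ⁻¹ᵁ U) :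
    ∃ (Z : Over (Spec (CommRingCat.of k))) (j : Z ⟶ X), IsClosedImmersion j.left ∧
      (Y ◁ j) ≫ a = snd Y Z ≫ j ∧
      ∀ (T : Over (Spec (CommRingCat.of k))) (x : T ⟶ X),
        (Y ◁ x) ≫ a = snd Y T ≫ x → ∃ z : T ⟶ Z, z ≫ j = x := by
  obtain ⟨Z, j, hj, H⟩ := exists_fixed_of_stable X Y a hstab
  exact ⟨Z, j, hj, (H Z j).mp ⟨𝟙 Z, Category.id_comp j⟩, fun T x hx => (H T x).mpr hx⟩

end Groth.Agent.LD.Misc
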