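import Mathlib

/-! # Restriction maps of injective sheaves of modules along monomorphisms are surjective. -/

universe u

namespace Groth.Agent.LD.InjRes

open CategoryTheory Limits Opposite

variable {C : Type u} [SmallCategory C] {J : GrothendieckTopology C} (O : Sheaf J RingCat.{u})

/-- the composite adjunction `free ⋙ sheafification ⊣ forget`. -/
noncomputable def adj :=
  (PresheafOfModules.freeAdjunction O.obj).comp
    (PresheafOfModules.sheafificationAdjunction.{u} (𝟙 O.obj))

lemma mono_free_map {T T' : Cᵒᵖ ⥤ Type u} (m : T' ⟶ T) (hm : ∀ X, Function.Injective (m.app X)) :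
    Mono ((PresheafOfModules.free O.obj).map m) := by
  apply PresheafOfModules.mono_of_injective
  intro X
  change Function.Injective ((ModuleCat.free (O.obj.obj X)).map (m.app X))
  exact Finsupp.mapDomain_injective (hm X)

theorem surjective_map (I : SheafOfModules.{u} O) [Injective I]
    {U U' : C} (a : U' ⟶ U) [Mono a] : Function.Surjective (I.val.map a.op) := by
  intro s'
  let S := PresheafOfModules.sheafification.{u} (𝟙 O.obj)
  let Fr := PresheafOfModules.free O.obj
  let P : Cᵒᵖ ⥤ Type u := ((SheafOfModules.forget O ⋙ PresheafOfModules.restrictScalars (𝟙 O.obj)) ⋙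
    (PresheafOfModules.toPresheaf O.obj ⋙ (Functor.whiskeringRight _ _ _).obj (forget Ab))).obj I
  have hm : ∀ X : Cᵒᵖ, Function.Injective ((yoneda.map a).app X) := by
    intro X f g hfg
    exact (cancel_mono a).1 hfg
  haveI := mono_free_map O (yoneda.map a) hm
  haveI : PreservesFiniteLimits S :=
    inferInstanceAs (PreservesFiniteLimits
      (PresheafOfModules.sheafification.{u} (𝟙 O.obj)))
  haveI : Mono (S.map (Fr.map (yoneda.map a))) := inferInstance
  let e : ∀ (T : Cᵒᵖ ⥤ Type u), (S.obj (Fr.obj T) ⟶ I) ≃ (T ⟶ P) :=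
    fun T => (adj O).homEquiv T I
  let t' : P.obj (op U') := s'
  let φ' : S.obj (Fr.obj (yoneda.obj U')) ⟶ I := (e _).symm (yonedaEquiv.symm t')
  let φ := Injective.factorThru φ' (S.map (Fr.map (yoneda.map a)))
  have hφ : S.map (Fr.map (yoneda.map a)) ≫ φ = φ' := Injective.comp_factorThru _ _
  have h1 : e _ (S.map (Fr.map (yoneda.map a)) ≫ φ) = yoneda.map a ≫ e _ φ :=
    (adj O).homEquiv_naturality_left (yoneda.map a) φ
  rw [hφ] at h1
  have h2 : e _ φ' = yonedaEquiv.symm t' := Equiv.apply_symm_apply _ _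
  rw [h2] at h1
  have h3 : yonedaEquiv (F := P) (yonedaEquiv.symm t') = yonedaEquiv (yoneda.map a ≫ e _ φ) :=
    congrArg _ h1
  rw [Equiv.apply_symm_apply] at h3
  refine ⟨yonedaEquiv (F := P) (e _ φ), ?_⟩
  have h4 := yonedaEquiv_naturality (F := P) (e _ φ) a
  exact h4.trans h3.symm

end Groth.Agent.LD.InjRes
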