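import Groth.Agent.Lib.Lead.SC.Shift
import Groth.Agent.Lib.Lead.SC.Global
import Mathlib

/-! # Dimension shifting along a finite exact sequence. -/

universe w v u

namespace Groth.Agent.LD.LongExact

open CategoryTheory Limits Opposite Abelian

section General

variable {𝒜 : Type u} [Category.{v} 𝒜] [Abelian 𝒜]

lemma shortExact_kernel {A B D : 𝒜} (f : A ⟶ B) (g : B ⟶ D) (w : f ≫ g = 0)
    (h : (ShortComplex.mk f g w).Exact) :
    (ShortComplex.mk (kernel.ι f) (kernel.lift g f w)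
      (by rw [← cancel_mono (kernel.ι g)]; simp)).ShortExact := by
  haveI : Epi (kernel.lift g f w) := h.epi_kernelLift
  refine ShortComplex.ShortExact.mk (ShortComplex.exact_of_f_is_kernel _ ?_)
  exact isKernelOfComp (kernel.ι g) f (kernelIsKernel f)
    (by rw [← cancel_mono (kernel.ι g)]; simp) (by simp)

variable [HasExt.{w} 𝒜]

lemma ext_eq_zero_of_isZero {T Z : 𝒜} {n : ℕ} (x : Ext T Z n) (hZ : IsZero Z) : x = 0 := by
  have h : x.comp (Ext.mk₀ (𝟙 Z)) (add_zero n) = x := Ext.comp_mk₀_id x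
  rw [← h, hZ.eq_of_src (𝟙 Z) 0, Ext.mk₀_zero, Ext.comp_zero]

theorem subsingleton_ext_kernel (T : 𝒜) (F : ChainComplex 𝒜 ℕ) (r : ℕ)
    (hmono : Mono (F.d r (r - 1)))
    (hex : ∀ j : ℕ, 1 ≤ j → j < r → F.ExactAt j)
    (hvan : ∀ j : ℕ, 2 ≤ j → j ≤ r → Subsingleton (Ext T (F.X j) (j - 1))) :
    ∀ j : ℕ, j ≤ r → 1 ≤ j → Subsingleton (Ext T (kernel (F.d j (j - 1))) j) := by
  intro j hj
  induction hj using Nat.decreasingInduction with
  | self =>
    intro _
    have hz : IsZero (kernel (F.d r (r - 1))) := isZero_kernel_of_mono _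
    exact ⟨fun a b => by rw [ext_eq_zero_of_isZero a hz, ext_eq_zero_of_isZero b hz]⟩
  | of_succ k hk ih =>
    intro h1
    obtain ⟨k', rfl⟩ : ∃ k', k = k' + 1 := ⟨k - 1, by omega⟩
    have hS : (ShortComplex.mk (F.d (k' + 1 + 1) (k' + 1)) (F.d (k' + 1) k')
        (F.d_comp_d _ _ _)).Exact := by
      have := hex (k' + 1) (by omega) hk
      rwa [HomologicalComplex.exactAt_iff' F (k' + 1 + 1) (k' + 1) k' (by simp) (by simp)] at this
    have hSE := shortExact_kernel _ _ _ hS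
    have h2 : Subsingleton (Ext T (F.X (k' + 1 + 1)) (k' + 1)) :=
      hvan (k' + 1 + 1) (by omega) (by omega)
    have h3 : Subsingleton (Ext T (kernel (F.d (k' + 1 + 1) (k' + 1))) (k' + 1 + 1)) :=
      ih (by omega)
    exact SC.subsingleton_ext_of_shortExact₃ hSE T (k' + 1) h2 h3

end General

end Groth.Agent.LD.LongExact

namespace Groth.Agent.LD.LongExact

open CategoryTheory Limits Opposite Abelian TopologicalSpace

theorem surjective_global (X : TopCat.{u})
    [HasExt.{u} (Sheaf (Opens.grothendieckTopology X) AddCommGrpCat.{u})]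
    (r : ℕ) (hr : 1 ≤ r)
    (F : ChainComplex (Sheaf (Opens.grothendieckTopology X) AddCommGrpCat.{u}) ℕ)
    (hmono : Mono (F.d r (r - 1))) (hepi : Epi (F.d 1 0))
    (hex : ∀ j : ℕ, 1 ≤ j → j < r → F.ExactAt j)
    (hvan : ∀ j : ℕ, 2 ≤ j → j ≤ r → Subsingleton (Sheaf.H (F.X j) (j - 1))) :
    Function.Surjective ((F.d 1 0).hom.app (Opposite.op ⊤)) := by
  let T := SC.ZU (Opens.grothendieckTopology X) (⊤ : Opens X)
  have hvan' : ∀ j : ℕ, 2 ≤ j → j ≤ r → Subsingleton (Ext T (F.X j) (j - 1)) := by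
    intro j h2 hj
    haveI := hvan j h2 hj
    exact (SC.HEquiv (T := (⊤ : Opens X)) Limits.isTerminalTop (F.X j) (j - 1)).symm.toEquiv.subsingleton
  have h1 : Subsingleton (Ext T (kernel (F.d 1 0)) 1) :=
    subsingleton_ext_kernel T F r hmono hex hvan' 1 hr le_rfl
  have hS : (ShortComplex.mk (kernel.ι (F.d 1 0)) (F.d 1 0) (kernel.condition _)).ShortExact :=
    ShortComplex.ShortExact.mk (ShortComplex.exact_of_f_is_kernel _ (kernelIsKernel _))
  intro x
  obtain ⟨y, hy⟩ := SC.surjective_app_of_subsingleton_ext1 hS (⊤ : Opens X) h1 x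
  exact ⟨y, hy⟩

end Groth.Agent.LD.LongExact
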